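import Groth.Agent.FinGrpdLib.FieldDim
import Groth.Agent.S4585

/-!
A groupoid on a field has the dimension of its stabilizer: a field mapped into a finite type algebra over a field
consists of algebraic elements.
-/

set_option autoImplicit false
set_option backward.isDefEq.respectTransparency false
universe u

open CategoryTheory CategoryTheory.Limits AlgebraicGeometry

noncomputable section

namespace Groth.Agent.GrpdDimLib

open Polynomial

/-- A field inside a finite type domain over `k` consists of elements algebraic over `k`. -/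
theorem isAlgebraic_of_field {k K A : Type u} [Field k] [Field K] [CommRing A] [IsDomain A] [Algebra k A]
    [Algebra.FiniteType k A] (τ : K →+* A) (x : K) : IsAlgebraic k (τ x) := by
  by_contra h
  let φ : k[X] →ₐ[k] A := Polynomial.aeval (τ x)
  have hφ : Function.Injective φ := transcendental_iff_injective.1 h
  letI : Algebra k[X] A := φ.toRingHom.toAlgebra
  haveI : IsScalarTower k k[X] A := .of_algebraMap_eq fun c => (φ.commutes c).symm
  haveI : Algebra.FiniteType k[X] A := Algebra.FiniteType.of_restrictScalars_finiteType k k[X] A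
  obtain ⟨g, hg, hrange⟩ := Groth.Agent.S4585.exists_basicOpen_subset_range_of_domain (R := k[X]) (S := A) hφ
  let P : ℕ → ℤ[X] := fun n => Nat.rec X (fun _ p => p * (p + 1)) n
  have hP : ∀ n, (P n).Monic ∧ 0 < (P n).natDegree := by
    intro n
    induction n with
    | zero => exact ⟨monic_X, by simp [P]⟩
    | succ n ih =>
      obtain ⟨h1, h2⟩ := ih
      have hd : degree (1 : ℤ[X]) < degree (P n) := by
        rw [degree_one, degree_eq_natDegree h1.ne_zero]
        exact_mod_cast h2
      have h3 : (P n + 1).Monic := h1.add_of_left hd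
      refine ⟨h1.mul h3, ?_⟩
      show 0 < (P n * (P n + 1)).natDegree
      rw [natDegree_mul h1.ne_zero h3.ne_zero]
      omega
  let kb := AlgebraicClosure k
  have hr : ∀ n, ∃ r : kb, aeval r (P n) = -1 := by
    intro n
    have hd : degree ((P n).map (algebraMap ℤ kb) + 1) ≠ 0 := by
      have h0 : ((P n).map (algebraMap ℤ kb)).natDegree = (P n).natDegree := (hP n).1.natDegree_map _
      have h1 : degree (1 : kb[X]) < degree ((P n).map (algebraMap ℤ kb)) := by
        rw [degree_one, degree_eq_natDegree ((hP n).1.map _).ne_zero, h0]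
        exact_mod_cast (hP n).2
      rw [degree_add_eq_left_of_degree_lt h1, degree_eq_natDegree ((hP n).1.map _).ne_zero, h0]
      exact_mod_cast (hP n).2.ne'
    obtain ⟨r, hr⟩ := IsAlgClosed.exists_root _ hd
    refine ⟨r, ?_⟩
    have hr' : eval r ((P n).map (algebraMap ℤ kb)) + 1 = 0 := by simpa [IsRoot] using hr
    rw [aeval_def, eval₂_eq_eval_map]
    exact eq_neg_of_add_eq_zero_left hr'
  choose r hr using hr
  have hdvd : ∀ n m, n < m → P n * (P n + 1) ∣ P m := by
    intro n m hnm
    induction m with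
    | zero => omega
    | succ m ih =>
      rcases Nat.lt_succ_iff_lt_or_eq.1 hnm with h' | h'
      · exact (ih h').trans (dvd_mul_right _ _)
      · subst h'; exact dvd_rfl
  have hinj : Function.Injective r := by
    intro n m hnm
    by_contra hne
    have key : ∀ a b, a < b → r a ≠ r b := fun a b hab he => by
      obtain ⟨c, hc⟩ := hdvd a b hab
      have h1 := hr b
      rw [hc, ← he, map_mul, map_mul, map_add, hr a, map_one, neg_add_cancel, mul_zero, zero_mul] at h1
      exact one_ne_zero (neg_eq_zero.1 h1.symm)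
    rcases Nat.lt_or_gt_of_ne hne with h' | h'
    · exact key _ _ h' hnm
    · exact key _ _ h' hnm.symm
  obtain ⟨n, hn⟩ : ∃ n, aeval (r n) g ≠ 0 := by
    by_contra hcon
    push Not at hcon
    refine Set.infinite_range_of_injective hinj ((g.rootSet_finite kb).subset ?_)
    rintro _ ⟨n, rfl⟩
    exact (mem_rootSet_of_ne hg).2 (hcon n)
  haveI : (RingHom.ker (aeval (r n) : k[X] →ₐ[k] kb)).IsPrime := RingHom.ker_isPrime _
  let p : PrimeSpectrum k[X] := ⟨RingHom.ker (aeval (r n) : k[X] →ₐ[k] kb), inferInstance⟩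
  obtain ⟨Q, hQ⟩ := hrange p hn
  let q : k[X] := (P n + 1).map (algebraMap ℤ k)
  have hq : q ∈ p.asIdeal := by
    show aeval (r n) q = 0
    rw [aeval_map_algebraMap, map_add, hr n, map_one, neg_add_cancel]
  rw [← hQ] at hq
  have hu : IsUnit (algebraMap k[X] A q) := by
    have e : algebraMap k[X] A q = τ (aeval x (P n + 1)) := by
      show aeval (τ x) q = _
      rw [aeval_map_algebraMap]
      exact (aeval_algHom_apply τ.toIntAlgHom x _)
    rw [e]
    refine IsUnit.map τ (isUnit_iff_ne_zero.2 fun h0 => h ?_)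
    refine ⟨q, ?_, ?_⟩
    · refine Monic.ne_zero (Monic.map _ ((hP n).1.add_of_left ?_))
      rw [degree_one, degree_eq_natDegree (hP n).1.ne_zero]
      exact_mod_cast (hP n).2
    · show algebraMap k[X] A q = 0
      rw [e, h0, map_zero]
  exact Q.2.ne_top (Ideal.eq_top_of_isUnit_mem _ hq hu)

/-- The residue field of a point of a locally finite type scheme over `k`: functions coming from another field
are algebraic. -/
theorem isAlgebraic_residueField {k K : Type u} [Field k] [Field K] {R : Scheme.{u}}
    (f : R ⟶ Spec (CommRingCat.of k)) [LocallyOfFiniteType f] (h : R ⟶ Spec (CommRingCat.of K)) (ξ : R) (x : K) :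
    letI := (Spec.preimage (R.fromSpecResidueField ξ ≫ f)).hom.toAlgebra
    IsAlgebraic k ((Spec.preimage (R.fromSpecResidueField ξ ≫ h)).hom x) := by
  obtain ⟨V, hV, hξV, -⟩ := exists_isAffineOpen_mem_and_subset (TopologicalSpace.Opens.mem_top ξ)
  have hrange : Set.range (R.fromSpecResidueField ξ) ⊆ Set.range hV.fromSpec := by
    rw [Scheme.range_fromSpecResidueField, hV.range_fromSpec]
    exact Set.singleton_subset_iff.2 hξV
  let l := IsOpenImmersion.lift hV.fromSpec (R.fromSpecResidueField ξ) hrange
  have hl : l ≫ hV.fromSpec = R.fromSpecResidueField ξ := IsOpenImmersion.lift_fac _ _ _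
  let ψ := Spec.preimage l
  let σA := Spec.preimage (hV.fromSpec ≫ f)
  let τA := Spec.preimage (hV.fromSpec ≫ h)
  have hσ : Spec.preimage (R.fromSpecResidueField ξ ≫ f) = σA ≫ ψ :=
    Spec.map_injective (by simp [σA, ψ, ← hl])
  have hτ : Spec.preimage (R.fromSpecResidueField ξ ≫ h) = τA ≫ ψ :=
    Spec.map_injective (by simp [τA, ψ, ← hl])
  have hft : σA.hom.FiniteType := by
    have : LocallyOfFiniteType (Spec.map σA) := by rw [Spec.map_preimage]; infer_instance
    exact (HasRingHomProperty.Spec_iff (P := @LocallyOfFiniteType)).1 this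
  letI := (Spec.preimage (R.fromSpecResidueField ξ ≫ f)).hom.toAlgebra
  letI := σA.hom.toAlgebra
  haveI : Algebra.FiniteType k Γ(R, V) := hft
  haveI : (RingHom.ker ψ.hom).IsPrime := RingHom.ker_isPrime _
  haveI : Algebra.FiniteType k (Γ(R, V) ⧸ RingHom.ker ψ.hom) :=
    Algebra.FiniteType.of_surjective (Ideal.Quotient.mkₐ k (RingHom.ker ψ.hom)) Ideal.Quotient.mk_surjective
  let ψq : Γ(R, V) ⧸ RingHom.ker ψ.hom →ₐ[k] R.residueField ξ :=
    { toRingHom := RingHom.kerLift ψ.hom
      commutes' := fun c => by
        show ψ.hom (σA.hom c) = (Spec.preimage (R.fromSpecResidueField ξ ≫ f)).hom c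
        rw [hσ]; rfl }
  have key := (isAlgebraic_of_field (k := k) ((Ideal.Quotient.mk (RingHom.ker ψ.hom)).comp τA.hom) x).algHom ψq
  rw [hτ]
  exact key

theorem topologicalKrullDim_eq_stabilizer {S : Scheme.{u}} (G : Grpd.GroupoidScheme S) {k : Type u} [Field k]
    (eU : G.U ≅ Spec (CommRingCat.of k)) [LocallyOfFiniteType G.s] [LocallyOfFiniteType G.t] :
    topologicalKrullDim G.R = topologicalKrullDim G.stabilizer := by
  obtain ⟨_, _⟩ := FinGrpdLib.point_props eU
  let e₀ : G.R := G.e (eU.inv (IsLocalRing.closedPoint k))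
  obtain ⟨ξ, hξ, hξmax⟩ := DimFormulaLib.exists_generic_of_mem_irreducibleComponents
    (irreducibleComponent_mem_irreducibleComponents e₀)
  have hξe : ξ ⤳ e₀ := specializes_iff_mem_closure.2 (hξ ▸ mem_irreducibleComponent)
  let f := G.s ≫ eU.hom
  let h := G.t ≫ eU.hom
  letI := (Spec.preimage (G.R.fromSpecResidueField ξ ≫ f)).hom.toAlgebra
  have halg : ∀ x : k, IsAlgebraic k ((Spec.preimage (G.R.fromSpecResidueField ξ ≫ h)).hom x) :=
    fun x => isAlgebraic_residueField f h ξ x
  let L := algebraicClosure k (G.R.residueField ξ)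
  let τ : k →+* L := RingHom.codRestrict (Spec.preimage (G.R.fromSpecResidueField ξ ≫ h)).hom L.toSubalgebra
    fun x => mem_algebraicClosure_iff.2 (halg x)
  let q : Spec (G.R.residueField ξ) ⟶ Spec (CommRingCat.of L) := Spec.map (CommRingCat.ofHom L.val.toRingHom)
  have hft : q ≫ Spec.map (CommRingCat.ofHom τ) = G.R.fromSpecResidueField ξ ≫ h := by
    rw [← Spec.map_comp, ← Spec.map_preimage (G.R.fromSpecResidueField ξ ≫ h)]
    rfl
  have hfs : q ≫ Spec.map (CommRingCat.ofHom (algebraMap k L)) = G.R.fromSpecResidueField ξ ≫ f := by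
    rw [← Spec.map_comp, ← Spec.map_preimage (G.R.fromSpecResidueField ξ ≫ f)]
    rfl
  haveI : IsAffine G.U := IsAffine.of_isIso eU.hom
  haveI : IsSeparated G.pU := inferInstance
  have hc : (Spec.map (CommRingCat.ofHom τ) ≫ eU.inv) ≫ G.pU =
      (Spec.map (CommRingCat.ofHom (algebraMap k L)) ≫ eU.inv) ≫ G.pU := by
    haveI : Surjective q := ⟨fun y => ⟨IsLocalRing.closedPoint _, Subsingleton.elim (α := PrimeSpectrum L) _ _⟩⟩
    haveI : IsDominant q := inferInstance
    haveI : Flat q := by
      rw [HasRingHomProperty.Spec_iff (P := @Flat)]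
      letI := L.val.toRingHom.toAlgebra
      exact (RingHom.flat_algebraMap_iff (R := L) (S := G.R.residueField ξ)).2 inferInstance
    rw [← cancel_epi q]
    simp only [Category.assoc, reassoc_of% hft, reassoc_of% hfs, f, h, Iso.hom_inv_id_assoc, G.t_over, G.s_over]
  let w : Spec (CommRingCat.of L) ⟶ pullback G.pU G.pU :=
    pullback.lift (Spec.map (CommRingCat.ofHom τ) ≫ eU.inv) (Spec.map (CommRingCat.ofHom (algebraMap k L)) ≫ eU.inv) hc
  have hw : q ≫ w = G.R.fromSpecResidueField ξ ≫ G.j := by
    apply pullback.hom_ext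
    · simp only [w, Grpd.GroupoidScheme.j, Category.assoc, pullback.lift_fst, reassoc_of% hft, h, Iso.hom_inv_id,
        Category.comp_id]
    · simp only [w, Grpd.GroupoidScheme.j, Category.assoc, pullback.lift_snd, reassoc_of% hfs, f, Iso.hom_inv_id,
        Category.comp_id]
  haveI : IsIntegralHom (Spec.map (CommRingCat.ofHom (algebraMap k L))) := by
    rw [IsIntegralHom.SpecMap_iff]
    exact fun y => Algebra.IsIntegral.isIntegral y
  haveI : IsIntegralHom (w ≫ pullback.snd G.pU G.pU) := by rw [pullback.lift_snd]; infer_instance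
  haveI : IsIntegralHom w := IsIntegralHom.of_comp w (pullback.snd G.pU G.pU)
  have hclosed : IsClosed ({G.j ξ} : Set ↥(pullback G.pU G.pU)) := by
    have : ({G.j ξ} : Set ↥(pullback G.pU G.pU)) = Set.range w := by
      rw [Set.range_eq_singleton_iff.2 fun y => ?_]
      refine (congrArg w (Subsingleton.elim (α := PrimeSpectrum L) y (q (IsLocalRing.closedPoint _)))).trans ?_
      refine (Scheme.Hom.comp_apply q w _).symm.trans ?_
      rw [hw]
      exact (Scheme.Hom.comp_apply _ _ _).trans (congrArg G.j (Scheme.fromSpecResidueField_apply ξ _))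
    rw [this]
    exact w.isClosedMap.isClosed_range
  have hje : G.j e₀ = G.j ξ := by
    exact (hξe.map G.j.continuous).mem_closed hclosed rfl
  let p := pullback.fst G.j G.diag
  haveI : IsImmersion (pullback.diagonal G.pU) := inferInstance
  haveI : IsImmersion G.diag := ‹IsImmersion (pullback.diagonal G.pU)›
  haveI : IsImmersion p := MorphismProperty.pullback_fst (P := @IsImmersion) _ _ ‹_›
  have hrange : closure ({ξ} : Set G.R) ⊆ Set.range p := fun z hz => by
    rw [Scheme.Pullback.range_fst]
    refine ⟨eU.inv (IsLocalRing.closedPoint k), ?_⟩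
    have hd : G.j e₀ = G.diag (eU.inv (IsLocalRing.closedPoint k)) := by
      rw [← Scheme.Hom.comp_apply]
      refine congrArg (fun m : G.U ⟶ pullback G.pU G.pU => m _) ?_
      apply pullback.hom_ext <;> simp [Grpd.GroupoidScheme.j, Grpd.GroupoidScheme.diag, G.e_t, G.e_s]
    rw [← hd, hje]
    exact Set.mem_singleton_iff.1 (((specializes_iff_mem_closure.2 hz).map G.j.continuous).mem_closed hclosed rfl) |>.symm
  have hdim : topologicalKrullDim ↥(closure ({ξ} : Set G.R)) = topologicalKrullDim G.R := by
    rw [LocDimBC.dim_component (G.t ≫ eU.hom) ξ hξmax, FinGrpdLib.localDim_eq_dim G ξ]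
  refine le_antisymm ?_ p.isEmbedding.isInducing.topologicalKrullDim_le
  rw [← hdim]
  choose φ hφ using fun z : ↥(closure ({ξ} : Set G.R)) => hrange z.2
  have hi : Topology.IsInducing (p ∘ φ) := by
    rw [show (p : G.stabilizer → G.R) ∘ φ = Subtype.val from funext hφ]
    exact Topology.IsInducing.subtypeVal
  exact (Topology.IsInducing.of_comp_iff p.isEmbedding.isInducing).1 hi |>.topologicalKrullDim_le

end Groth.Agent.GrpdDimLib
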